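import Cfsg.Agent.H459.Six.Frame
import Cfsg.Agent.H504.TC.ExcK
import Cfsg.Agent.H937.TC.RankOne
import Cfsg.Agent.H110.TC6.TwF
import Cfsg.Agent.H538.TC.RowE8

/-!
# S2464: the exceptional rows; open rows as hypotheses (helper459)
-/

set_option autoImplicit false

namespace Cfsg.Agent.H459.Six

open Cfsg.Agent.H777.T6

universe u

/-- the exceptional rows of S2464 -/
theorem six_exc (g2 : ∀ {G : Type u} [Group G], Lie.IsoChevG2 G → T6 G) (f4 : ∀ {G : Type u} [Group G], Lie.IsoF4 G → T6 G)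
    (d4 : ∀ {G : Type u} [Group G], Lie.Iso3D4 G → T6 G) :
    Cfsg.Agent.H459.Ore.ExcRows.{u} (fun G _ => T6 G) where
  g2 := fun h => g2 h
  f4 := fun h => f4 h
  e6 := fun h => (Cfsg.Agent.H504.TC.row3_e6 h).s2464
  e7 := fun h => (Cfsg.Agent.H504.TC.row3_e7 h).s2464
  e8 := fun h => Cfsg.Agent.H538.TC.E8F.t6_E8 h
  te6 := fun h => (Cfsg.Agent.H504.TC.row3_te6 h).s2464
  td4 := fun h => d4 h
  sz := fun h => (Cfsg.Agent.H937.TC.row3_sz h).s2464
  ree := fun h => (Cfsg.Agent.H937.TC.row3_ree h).s2464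
  tf4 := fun h => Cfsg.Agent.H110.TC6.six_iso2F4 h
  tits := fun h => (Cfsg.Agent.H110.TC6.row3_isoTits h).s2464

end Cfsg.Agent.H459.Six
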