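import Cfsg.Agent.H459.Six.Main
import Cfsg.Agent.H700.TC6.Union

/-!
# S2464 from the five late rows (helper459; union rows: helper700)
-/

set_option autoImplicit false

namespace Cfsg.Agent.H459.Six

open Cfsg.Agent.H777.T6

universe u

/-- S2464 from the five late rows -/
theorem s2464_fin
    (g5 : ∀ (K : Type) [Field K] [Fintype K], Fintype.card K = 5 → T6 ↥(Lie.chevG2.group K))
    (g7 : ∀ (K : Type) [Field K] [Fintype K], Fintype.card K = 7 → T6 ↥(Lie.chevG2.group K))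
    (gen : ∀ (K : Type) [Field K] [Fintype K], 9 ≤ Fintype.card K → T6 ↥(Lie.chevG2.group K))
    (f3 : ∀ (K : Type) [Field K] [Fintype K], Fintype.card K = 3 → T6 ↥(Lie.chevF4.group K))
    (late : ∀ (K : Type) [Field K] [Fintype K], (Fintype.card K = 5 ∨ Fintype.card K = 7 ∨ Fintype.card K = 17) →
      T6 ↥(Lie.chevF4.group K))
    {G : Type u} [Group G] [Finite G] [IsSimpleGroup G] (hG : ¬ IsMulCommutative G)
    (h7 : ∀ (F : Type) [Field F] [Fintype F], Fintype.card F = 7 →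
      ¬ Nonempty (G ≃* Matrix.ProjectiveSpecialLinearGroup (Fin 2) F))
    (h17 : ∀ (F : Type) [Field F] [Fintype F], Fintype.card F = 17 →
      ¬ Nonempty (G ≃* Matrix.ProjectiveSpecialLinearGroup (Fin 2) F)) :
    ∃ x y : G, Nat.Coprime (orderOf x) 6 ∧ Nat.Coprime (orderOf y) 6 ∧
      ∀ g : G, g ≠ 1 → ∃ u v : G, g = (u * x * u⁻¹) * (v * y * v⁻¹) :=
  s2464_main Cfsg.Agent.H700.TC6.spOpen (fun h => Cfsg.Agent.H700.TC6.t6_isPOmegaOdd h)
    (fun h => Cfsg.Agent.H700.TC6.t6_isoChevG2 g5 g7 gen h) (fun h => Cfsg.Agent.H700.TC6.t6_isoF4 f3 late h)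
    (fun h => Cfsg.Agent.H700.TC6.t6_iso3D4 h) hG h7 h17

end Cfsg.Agent.H459.Six
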