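import Cfsg.Agent.H459.Six.Psl
import Cfsg.Agent.H910.TC.Sp43
import Cfsg.Agent.H812.TC.EvenRow
import Cfsg.Agent.H843.TC6.Row
import Cfsg.Agent.H126.TC.Plus
import Cfsg.Agent.H367.TC.SixO
import Cfsg.Agent.H3.TC.Six

/-!
# S2464: classical rows and the final case distinction (helper459)
-/

set_option autoImplicit false

namespace Cfsg.Agent.H459.Six

open Cfsg.Agent.H777.T6

universe u

/-- open rows of the symplectic groups -/
structure SpOpen : Prop where
  /-- `PSp₄(q)`, `q ≥ 5` odd -/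
  four : ∀ (F : Type) [Field F] [Fintype F], 5 ≤ Fintype.card F → Fintype.card F % 2 = 1 → T6 (PSp 2 F)
  /-- `PSp₂ₙ(q)`, `q` even, `n ≥ 3` -/
  even : ∀ (F : Type) [Field F] [Fintype F] (m : ℕ), 3 ≤ m → Fintype.card F % 2 = 0 → T6 (PSp m F)
  /-- `PSp₈(q)` for `q = 3, 5, 7, 17` -/
  eight : ∀ (F : Type) [Field F] [Fintype F], (Fintype.card F = 3 ∨ Fintype.card F = 5 ∨ Fintype.card F = 7 ∨
    Fintype.card F = 17) → T6 (PSp 4 F)

theorem two_ne {F : Type} [Field F] [Fintype F] (h : Fintype.card F % 2 = 1) : (2 : F) ≠ 0 := by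
  intro h0
  have : CharP F 2 := CharTwo.of_one_ne_zero_of_two_eq_zero one_ne_zero h0
  have h3 := (FiniteField.even_card_iff_char_two (F := F)).1 (ringChar.eq F 2)
  omega

theorem t6_isPSp (O : SpOpen) {G : Type u} [Group G] (h : IsPSp G) : T6 G := by
  obtain ⟨F, _, _, m, hm, h3, ⟨e⟩⟩ := h
  refine T6.of_equiv e ?_
  have h2 : 2 ≤ Fintype.card F := Fintype.one_lt_card
  rcases Nat.mod_two_eq_zero_or_one (Fintype.card F) with he | ho
  · rcases (show m = 2 ∨ 3 ≤ m by omega) with rfl | hm3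
    · exact (Cfsg.Agent.H812.TC.EvenRow.row3_even (h3 rfl) he).s2464
    · exact O.even F m hm3 he
  · rcases (show m = 2 ∨ 3 ≤ m by omega) with rfl | hm3
    · by_cases hq : Fintype.card F = 3
      · exact (Cfsg.Agent.H910.TC.row3_psp43 (by rw [Nat.card_eq_fintype_card, hq])).s2464
      · exact O.four F (by omega) ho
    · by_cases h4 : m = 4 ∧ (Fintype.card F = 3 ∨ Fintype.card F = 5 ∨ Fintype.card F = 7 ∨ Fintype.card F = 17)
      · obtain ⟨rfl, h4⟩ := h4
        exact O.eight F h4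
      · refine Cfsg.Agent.H843.TC6.t6_psp hm3 F (two_ne ho) fun hm4 => ?_
        rw [Nat.card_eq_fintype_card]
        refine ⟨fun h => h4 ⟨hm4, by omega⟩, fun h => h4 ⟨hm4, by omega⟩, fun h => h4 ⟨hm4, by omega⟩,
          fun h => h4 ⟨hm4, by omega⟩⟩

theorem t6_isPSU {G : Type u} [Group G] (h : IsPSU G) : T6 G := by
  obtain ⟨F, _, _, n, q, hF, hn, hex, ⟨e⟩⟩ := h
  refine T6.of_equiv e ?_
  rcases hn.eq_or_lt with rfl | hn4
  · have hq := LieClassical.HermBasic.two_le hF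
    exact (Cfsg.Agent.H3.TC.pp_psu_three_all (q := q) (by
      by_contra hcon
      exact hex ⟨rfl, by omega⟩) hF).cop
  · exact (Cfsg.Agent.H950.TC.row3_psu hF hn4).s2464

theorem t6_isPOmegaPlus {G : Type u} [Group G] (h : IsPOmegaPlus G) : T6 G := by
  obtain ⟨F, _, _, m, hm, ⟨e⟩⟩ := h
  rcases Nat.even_or_odd m with he | ho
  · exact T6.of_equiv e (Cfsg.Agent.H126.TC.row3_plus hm he).s2464
  · exact Cfsg.Agent.H367.TC.six_plus_odd hm ho e

theorem t6_isPOmegaMinus {G : Type u} [Group G] (h : IsPOmegaMinus G) : T6 G :=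
  Cfsg.Agent.H367.TC.six_minus h

/-- the classical and alternating rows of S2464 from the open rows -/
theorem six_cls (O : SpOpen) (odd : ∀ {G : Type u} [Group G], IsPOmegaOdd G → T6 G) :
    Cfsg.Agent.H459.Ore.ClsRows.{u} (fun G _ => NotL G → T6 G) where
  alt := fun h _ => six_isAlternating h
  psl := fun h hL => six_isPSL hL h
  psp := fun h _ => t6_isPSp O h
  psu := fun h _ => t6_isPSU h
  poo := fun h _ => odd h
  pop := fun h _ => t6_isPOmegaPlus h
  pom := fun h _ => t6_isPOmegaMinus h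

theorem ExcRows.imp {P Q : (G : Type u) → [Group G] → Prop} (h : ∀ (G : Type u) [Group G], P G → Q G)
    (R : Cfsg.Agent.H459.Ore.ExcRows P) : Cfsg.Agent.H459.Ore.ExcRows Q where
  g2 := fun x => h _ (R.g2 x)
  f4 := fun x => h _ (R.f4 x)
  e6 := fun x => h _ (R.e6 x)
  e7 := fun x => h _ (R.e7 x)
  e8 := fun x => h _ (R.e8 x)
  te6 := fun x => h _ (R.te6 x)
  td4 := fun x => h _ (R.td4 x)
  sz := fun x => h _ (R.sz x)
  ree := fun x => h _ (R.ree x)
  tf4 := fun x => h _ (R.tf4 x)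
  tits := fun x => h _ (R.tits x)

theorem SporRows.imp {P Q : (G : Type u) → [Group G] → Prop} (h : ∀ (G : Type u) [Group G], P G → Q G)
    (R : Cfsg.Agent.H459.Ore.SporRows P) : Cfsg.Agent.H459.Ore.SporRows Q where
  m11 := fun x => h _ (R.m11 x)
  m12 := fun x => h _ (R.m12 x)
  m22 := fun x => h _ (R.m22 x)
  m23 := fun x => h _ (R.m23 x)
  m24 := fun x => h _ (R.m24 x)
  j1 := fun x => h _ (R.j1 x)
  j2 := fun x => h _ (R.j2 x)
  j3 := fun x => h _ (R.j3 x)
  j4 := fun x => h _ (R.j4 x)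
  co1 := fun x => h _ (R.co1 x)
  co2 := fun x => h _ (R.co2 x)
  co3 := fun x => h _ (R.co3 x)
  mcL := fun x => h _ (R.mcL x)
  hS := fun x => h _ (R.hS x)
  suz := fun x => h _ (R.suz x)
  he := fun x => h _ (R.he x)
  ru := fun x => h _ (R.ru x)
  oN := fun x => h _ (R.oN x)
  ly := fun x => h _ (R.ly x)
  fi22 := fun x => h _ (R.fi22 x)
  fi23 := fun x => h _ (R.fi23 x)
  fi24 := fun x => h _ (R.fi24 x)
  hN := fun x => h _ (R.hN x)
  th := fun x => h _ (R.th x)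
  b := fun x => h _ (R.b x)
  m := fun x => h _ (R.m x)

/-- the final form of S2464 -/
theorem s2464_of (C : Cfsg.Agent.H459.Ore.ClsRows.{u} (fun G _ => NotL G → T6 G))
    (E : Cfsg.Agent.H459.Ore.ExcRows.{u} (fun G _ => T6 G)) (S : Cfsg.Agent.H459.Ore.SporRows.{u} (fun G _ => T6 G))
    {G : Type u} [Group G] [Finite G] (hG : ¬ IsMulCommutative G) (hK : IsKnownSimple' G)
    (h7 : ∀ (F : Type) [Field F] [Fintype F], Fintype.card F = 7 →
      ¬ Nonempty (G ≃* Matrix.ProjectiveSpecialLinearGroup (Fin 2) F))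
    (h17 : ∀ (F : Type) [Field F] [Fintype F], Fintype.card F = 17 →
      ¬ Nonempty (G ≃* Matrix.ProjectiveSpecialLinearGroup (Fin 2) F)) :
    ∃ x y : G, Nat.Coprime (orderOf x) 6 ∧ Nat.Coprime (orderOf y) 6 ∧
      ∀ g : G, g ≠ 1 → ∃ u v : G, g = (u * x * u⁻¹) * (v * y * v⁻¹) :=
  Cfsg.Agent.H459.Ore.main (P := fun G _ => NotL G → T6 G) C (ExcRows.imp (fun _ _ h _ => h) E)
    (SporRows.imp (fun _ _ h _ => h) S) hG hK ⟨h7, h17⟩

end Cfsg.Agent.H459.Six
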