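import Cfsg.Agent.H459.Six.Psl
import Cfsg.Agent.H922.TC.Mat
import Cfsg.Agent.H922.TC.HS
import Cfsg.Agent.H334.TC.Rows
import Cfsg.Agent.H455.TC.J1
import Cfsg.Agent.H455.TC.J3
import Cfsg.Agent.H300.TC.JTwo
import Cfsg.Agent.H854.TC.J4
import Cfsg.Agent.H785.TC.Co1
import Cfsg.Agent.H258.TC.Row3
import Cfsg.Agent.H763.TC.Co3
import Cfsg.Agent.H763.TC.Fi22
import Cfsg.Agent.H235.TC.HeMcL
import Cfsg.Agent.H264.TC.Suz
import Cfsg.Agent.H51.XX.RuTC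
import Cfsg.Agent.H210.TC.ON
import Cfsg.Agent.H210.TC.Ly
import Cfsg.Agent.H293.PwF.TC
import Cfsg.Agent.H713.TC.Fi24Final
import Cfsg.Agent.H981.TC.HN
import Cfsg.Agent.H980.TC.ThTC
import Cfsg.Agent.H844.TC.BSix
import Cfsg.Agent.H58.TC.RowM

/-!
# S2464: the sporadic rows (helper459)
-/

set_option autoImplicit false

namespace Cfsg.Agent.H459.Six

open Cfsg.Agent.H777.T6

universe u

/-- the sporadic rows of S2464 -/
theorem six_spor (B : Cfsg.Agent.H940.Eng.Base) (hK : Cfsg.Agent.H995.CopEngine.AllKnown.{0}) :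
    Cfsg.Agent.H459.Ore.SporRows.{u} (fun G _ => T6 G) where
  m11 := fun h => (Cfsg.Agent.H922.TC.Mat.pp_m11 h).cop
  m12 := fun h => (Cfsg.Agent.H922.TC.Mat.pp_m12 h).cop
  m22 := fun h => (Cfsg.Agent.H334.TC.row3_m22 h).s2464
  m23 := fun h => (Cfsg.Agent.H334.TC.row3_m23 h).s2464
  m24 := fun h => (Cfsg.Agent.H334.TC.row3_m24 h).s2464
  j1 := fun h => (Cfsg.Agent.H455.TC.row3_j1 h).s2464
  j2 := fun h => Cfsg.Agent.H300.TC.JTwo.tc6_j2 h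
  j3 := fun h => (Cfsg.Agent.H455.TC.row3_j3 h).s2464
  j4 := fun h => (Cfsg.Agent.H854.TC.row3_J4 h).s2464
  co1 := fun h => (Cfsg.Agent.H785.TC.row3_Co1 h).s2464
  co2 := fun h => (Cfsg.Agent.H258.TC.row3_co2 h).s2464
  co3 := fun h => (Cfsg.Agent.H763.TC.Co3.row3_co3 h).s2464
  mcL := fun h => (Cfsg.Agent.H235.TC.McL.row3_mcl h).s2464
  hS := fun h => (Cfsg.Agent.H922.TC.HS.pp_hs h).cop
  suz := fun h => Cfsg.Agent.H264.TC.Suz.tc6_Suz h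
  he := fun h => (Cfsg.Agent.H235.TC.He.row3_he h).s2464
  ru := fun h => Cfsg.Agent.H51.XX.tc6_Ru h
  oN := fun h => (Cfsg.Agent.H210.TC.ONan.row3_on h).s2464
  ly := fun h => (Cfsg.Agent.H210.TC.row3_ly hK h).s2464
  fi22 := fun h => (Cfsg.Agent.H763.TC.Fi22.row3_fi22 h).s2464
  fi23 := fun h => (Cfsg.Agent.H293.PwF.row3_fi23 h).s2464
  fi24 := fun h => Cfsg.Agent.H713.TC.FiTF.tc6_Fi24' h
  hN := fun h => (Cfsg.Agent.H981.TC.HNTC.row3_HN h).s2464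
  th := fun h => Cfsg.Agent.H980.TC.Th.tc6_th h
  b := fun h => Cfsg.Agent.H844.TC.BSix.tc6_B h
  m := fun h => Cfsg.Agent.H58.TC.tc6_M B h

end Cfsg.Agent.H459.Six
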