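import Cfsg.Agent.S0000
import Cfsg.Agent.OrdDiv.Table
import Cfsg.Agent.H459.Six.Frame
import Cfsg.Agent.H459.Six.Exc
import Cfsg.Agent.H459.Six.Spor

/-!
# S2464 from the open rows (helper459)
-/

set_option autoImplicit false

namespace Cfsg.Agent.H459.Six

open Cfsg.Agent.H777.T6

universe u

/-- S2464 from the open rows -/
theorem s2464_main (O : SpOpen) (odd : ∀ {G : Type u} [Group G], IsPOmegaOdd G → T6 G)
    (g2 : ∀ {G : Type u} [Group G], Lie.IsoChevG2 G → T6 G) (f4 : ∀ {G : Type u} [Group G], Lie.IsoF4 G → T6 G)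
    (d4 : ∀ {G : Type u} [Group G], Lie.Iso3D4 G → T6 G)
    {G : Type u} [Group G] [Finite G] [IsSimpleGroup G] (hG : ¬ IsMulCommutative G)
    (h7 : ∀ (F : Type) [Field F] [Fintype F], Fintype.card F = 7 →
      ¬ Nonempty (G ≃* Matrix.ProjectiveSpecialLinearGroup (Fin 2) F))
    (h17 : ∀ (F : Type) [Field F] [Fintype F], Fintype.card F = 17 →
      ¬ Nonempty (G ≃* Matrix.ProjectiveSpecialLinearGroup (Fin 2) F)) :
    ∃ x y : G, Nat.Coprime (orderOf x) 6 ∧ Nat.Coprime (orderOf y) 6 ∧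
      ∀ g : G, g ≠ 1 → ∃ u v : G, g = (u * x * u⁻¹) * (v * y * v⁻¹) := by
  have B : Cfsg.Agent.H940.Eng.Base := ⟨Cfsg.Agent.OrdDiv.table, fun _ _ _ _ => Cfsg.Agent.S0000.result⟩
  have hK : Cfsg.Agent.H995.CopEngine.AllKnown.{0} := fun _ _ _ _ => Cfsg.Agent.S0000.result
  exact s2464_of (six_cls O odd) (six_exc g2 f4 d4) (six_spor B hK) hG Cfsg.Agent.S0000.result h7 h17

end Cfsg.Agent.H459.Six
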