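import Cfsg.Agent.H459.Ore.Frame
import Cfsg.Agent.H459.TC.Alt
import Cfsg.Agent.H937.TC.RankOne
import Cfsg.Agent.H922.TC.LThreeAll
import Cfsg.Agent.H962.TC.Psl
import Cfsg.Agent.H950.TC.Psu
import Cfsg.Agent.S0255
import Cfsg.Agent.H777.T6.Defs

/-!
# S2464: the predicate, alternating groups and `PSL_n(q)` (helper459)
-/

set_option autoImplicit false

namespace Cfsg.Agent.H459.Six

open Cfsg.Agent.H777.T6

universe u

/-- the group is neither `PSL₂(7)` nor `PSL₂(17)` -/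
def NotL (G : Type u) [Group G] : Prop :=
  (∀ (F : Type) [Field F] [Fintype F], Fintype.card F = 7 → ¬ Nonempty (G ≃* Matrix.ProjectiveSpecialLinearGroup (Fin 2) F)) ∧
    ∀ (F : Type) [Field F] [Fintype F], Fintype.card F = 17 → ¬ Nonempty (G ≃* Matrix.ProjectiveSpecialLinearGroup (Fin 2) F)

theorem six_isAlternating {G : Type u} [Group G] (h : IsAlternating G) : T6 G :=
  (Cfsg.Agent.H459.TC.row3_isAlternating h).s2464

theorem six_isPSL {G : Type u} [Group G] (hL : NotL G) (h : IsPSL G) : T6 G := by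
  obtain ⟨F, _, _, n, hn, h4, ⟨e⟩⟩ := h
  rcases (show n = 2 ∨ n = 3 ∨ 4 ≤ n by omega) with rfl | rfl | hn4
  · exact (Cfsg.Agent.H210.TC.Row3.of_equiv e (Cfsg.Agent.H937.TC.row3_psl_two (h4 rfl) (fun h => hL.1 F h ⟨e⟩)
      (fun h => hL.2 F h ⟨e⟩))).s2464
  · by_cases h2 : Nat.card F = 2
    · have : Fact (Nat.Prime 7) := ⟨by norm_num⟩
      obtain ⟨f⟩ := Cfsg.Agent.S0255.result (F := ZMod 7) (K := F) (ZMod.card 7) (by rw [← Nat.card_eq_fintype_card, h2])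
      exact absurd ⟨e.trans f.symm⟩ (hL.1 (ZMod 7) (ZMod.card 7))
    · exact (Cfsg.Agent.H494.TC.PP.of_equiv e (Cfsg.Agent.H922.TC.L3.pp_psl_three_all F h2)).cop
  · exact (Cfsg.Agent.H494.TC.PP.of_equiv e (Cfsg.Agent.H962.TC.pp_psl hn4 F)).cop

end Cfsg.Agent.H459.Six
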